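import Groth.Agent.Lib.BaseChange22.Square
import Groth.Agent.Lib.RightAdj22.QFun
import Groth.Agent.Lib.RightAdj22.Tri
import Groth.Agent.Lib.OX.AffineReflect
import Groth.Agent.Lib.OX.DQCohBrown

/-! # Bounded-above right adjoints and base change -/

set_option autoImplicit false
set_option maxHeartbeats 1000000
set_option linter.style.haveILetI false
universe u

open CategoryTheory CategoryTheory.Limits AlgebraicGeometry CategoryTheory.Pretriangulated

attribute [local instance] HasDerivedCategory.standard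

noncomputable section

namespace GrothLib.AdjBdd22

open GrothLib.OX GrothLib.RightAdj22

variable {X Y X' Y' : Scheme.{u}}

theorem le_iso {Z : Scheme.{u}} {A B : DCoh.D Z} (e : A ≅ B) {n : ℤ} (h : A.IsLE n) : B.IsLE n :=
  (DerivedCategory.isLE_iff _ _).2 fun i hi =>
    ((DerivedCategory.isLE_iff _ _).1 h i hi).of_iso ((DerivedCategory.homologyFunctor _ i).mapIso e.symm)

theorem le_le {Z : Scheme.{u}} {A : DCoh.D Z} {n m : ℤ} (h : A.IsLE n) (hnm : n ≤ m) : A.IsLE m :=
  (DerivedCategory.isLE_iff _ _).2 fun i hi => (DerivedCategory.isLE_iff _ _).1 h i (by omega)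

/-- Direct image along an affine morphism detects upper bounds. -/
theorem isLE_of_isLE_RR (k : X ⟶ Y) [IsAffineHom k] [QuasiSeparated k] {C : DCoh.D X} (hC : DCoh.IsQCohD C)
    (m : ℤ) [((RR k).obj C).IsLE m] : C.IsLE m := by
  rw [DerivedCategory.isLE_iff]
  intro j hj
  have hz : IsZero (DCoh.HD ((RR k).obj C) j) := DerivedCategory.isZero_of_isLE _ m j hj
  refine isZero_of_affine_cover (hC j) (fun V : Y.affineOpens => k ⁻¹ᵁ V.1) (fun V => V.2.preimage k)
    (fun x => ?_) fun V t => ?_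
  · obtain ⟨U, hU, hx, -⟩ := exists_isAffineOpen_mem_and_subset (x := k x) (U := ⊤) trivial
    exact ⟨⟨U, hU⟩, hx⟩
  · obtain ⟨φ, hφ⟩ := (theta_bijective (V.2.preimage k) hC j).2 ((genSec (DCoh.HD C j) (k ⁻¹ᵁ V.1)).symm t)
    have h0 : φ = 0 := by
      let e := SiteDer.pushHomEquiv (rmor k) V.1 j C
      have h1 : e.symm φ = 0 := (theta_bijective V.2 (isQCohD_Rres k C hC) j).1 (hz.eq_of_tgt _ _)
      refine (e.apply_symm_apply φ).symm.trans ((congrArg e h1).trans ?_)
      exact SiteDer.pushHomEquiv_zero (rmor k) V.1 j C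
    simp only [h0, SiteDer.theta_zero] at hφ
    rw [← (genSec (DCoh.HD C j) (k ⁻¹ᵁ V.1)).apply_symm_apply t, ← hφ]
    exact SiteDer.secMod_zero _ _

/-- Direct images shift upper bounds uniformly. -/
theorem exists_isLE_RR (k : X ⟶ Y) [QuasiCompact k] [QuasiSeparated k] [CompactSpace Y] :
    ∃ N : ℤ, ∀ (E : DCoh.D X) (n : ℤ), DCoh.IsQCohD E → E.IsLE n → ((RR k).obj E).IsLE (n + N) := by
  obtain ⟨N, hN⟩ := exists_bound_Rres k
  refine ⟨N, fun E n hE hn => (DerivedCategory.isLE_iff _ _).2 fun i hi => ?_⟩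
  haveI := hn
  haveI : (E⟦n⟧).IsLE 0 := DerivedCategory.TStructure.t.isLE_shift E n n 0 (by omega)
  have hz := hN (E⟦n⟧) (isQCohD_shift hE n) inferInstance (i - n) (by omega)
  exact hz.of_iso ((HDShiftIso ((RR k).obj E) n (i - n) i (by omega)).symm ≪≫
    (DerivedCategory.homologyFunctor _ _).mapIso (((RR k).commShiftIso n).app E).symm)

variable {f : X ⟶ Y} {g : Y' ⟶ Y} {f' : X' ⟶ Y'} {g' : X' ⟶ X}

/-- **A bounded-above right adjoint stays bounded above after tor independent base change.** -/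
theorem exists_bound (h : IsPullback g' f' f g) (hbc : TorBC25.BC h)
    [CompactSpace X] [QuasiSeparatedSpace X] [CompactSpace Y] [QuasiSeparatedSpace Y]
    [CompactSpace X'] [QuasiSeparatedSpace X'] [CompactSpace Y'] [QuasiSeparatedSpace Y']
    [DCoh.HasRpush f] [DCoh.HasRpush f'] [DCoh.HasRpush g] [DCoh.HasRpush g']
    (hf : DCoh.RpushPreservesQCoh f) (hf' : DCoh.RpushPreservesQCoh f') (hg : DCoh.RpushPreservesQCoh g)
    (hg' : DCoh.RpushPreservesQCoh g') {a : DCoh.DQCoh Y ⥤ DCoh.DQCoh X} {a' : DCoh.DQCoh Y' ⥤ DCoh.DQCoh X'}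
    (adj : DCoh.RpushQ f hf ⊣ a) (adj' : DCoh.RpushQ f' hf' ⊣ a') (d : ℤ)
    (hd : ∀ (K : DCoh.DQCoh Y) (n : ℤ), K.obj.IsLE n → (a.obj K).obj.IsLE (n + d)) :
    ∃ d' : ℤ, ∀ (K' : DCoh.DQCoh Y') (n : ℤ), K'.obj.IsLE n → (a'.obj K').obj.IsLE (n + d') := by
  haveI : QuasiCompact f := quasiCompact_of_compactSpace f
  haveI : QuasiSeparated f := QuasiSeparated.of_quasiSeparatedSpace f
  haveI : QuasiCompact f' := quasiCompact_of_compactSpace f'
  haveI : QuasiSeparated f' := QuasiSeparated.of_quasiSeparatedSpace f'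
  haveI : QuasiCompact g := quasiCompact_of_compactSpace g
  haveI : QuasiSeparated g := QuasiSeparated.of_quasiSeparatedSpace g
  haveI : QuasiCompact g' := quasiCompact_of_compactSpace g'
  haveI : QuasiSeparated g' := QuasiSeparated.of_quasiSeparatedSpace g'
  haveI := hasLpull g
  haveI := hasLpull g'
  obtain ⟨b⟩ := nonempty_lpullAdj g
  obtain ⟨b'⟩ := nonempty_lpullAdj g'
  obtain ⟨e, he⟩ := BaseChange22.exists_sqQ_bc hf hf' hg hg' h hbc
  have hξ : ∀ M : DCoh.DQCoh Y', IsIso (Dual3.xi adj adj' e M) := fun M =>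
    BaseChange22.isIso_xi adj adj' e (BaseChange22.adjQ hg b) (BaseChange22.adjQ hg' b') (fun K => he _ _ _ _ K) M
  -- the bound on objects supported on an affine open
  have haff : ∀ (U : Y.Opens), IsAffineOpen U → ∀ (O : Y'.Opens), IsAffineOpen O → O ≤ g ⁻¹ᵁ U →
      ∃ d₁ : ℤ, ∀ (M : DCoh.DQCoh O.toScheme) (n : ℤ) [QuasiCompact O.ι], M.obj.IsLE n →
        (a'.obj ((RRQ O.ι).obj M)).obj.IsLE (n + d₁) := by
    intro U hU O hO eU
    haveI : CompactSpace O.toScheme := isCompact_iff_compactSpace.1 hO.isCompact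
    haveI : QuasiCompact O.ι := quasiCompact_of_compactSpace O.ι
    let i' := (f' ⁻¹ᵁ O).ι
    let iX := (f ⁻¹ᵁ U).ι
    haveI : CompactSpace (f' ⁻¹ᵁ O).toScheme := isCompact_iff_compactSpace.1 (f'.isCompact_preimage hO.isCompact)
    haveI : QuasiSeparatedSpace (f' ⁻¹ᵁ O).toScheme := quasiSeparatedSpace_of_quasiSeparated i'
    haveI : QuasiCompact i' := quasiCompact_of_compactSpace i'
    haveI : QuasiSeparatedSpace O.toScheme := quasiSeparatedSpace_of_quasiSeparated O.ι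
    haveI : QuasiCompact (f' ∣_ O) := quasiCompact_of_compactSpace _
    haveI : QuasiSeparated (f' ∣_ O) := QuasiSeparated.of_quasiSeparatedSpace _
    haveI : DCoh.HasRpush (f' ∣_ O) := KInj.hasRightDerivedFunctor _
    have hfO : DCoh.RpushPreservesQCoh (f' ∣_ O) := fun K hK => fun i =>
      isQCoh_of_iso ((DerivedCategory.homologyFunctor _ i).mapIso ((rpushIsoRres (f' ∣_ O)).app K)).symm
        (isQCohD_Rres (f' ∣_ O) K hK i)
    haveI := isLeftAdjoint_lift_Rpush (f' ∣_ O) hfO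
    let aO := (DCoh.RpushQ (f' ∣_ O) hfO).rightAdjoint
    let adjO : RRQ (f' ∣_ O) ⊣ aO :=
      (Adjunction.ofIsLeftAdjoint (DCoh.RpushQ (f' ∣_ O) hfO)).ofNatIsoLeft (rpushQIso (f' ∣_ O) hfO)
    let adjF : RRQ f' ⊣ a' := adj'.ofNatIsoLeft (rpushQIso f' hf')
    let bcQ : resQ i' ⋙ RRQ (f' ∣_ O) ≅ RRQ f' ⋙ resQ O.ι :=
      NatIso.ofComponents (fun K => (DCoh.IsQCohD (X := O.toScheme)).isoMk ((resDRRBaseChange f' O).symm.app K.obj))
        fun {A B} φ => ObjectProperty.hom_ext _ ((resDRRBaseChange f' O).inv.naturality φ.hom)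
    let u : aO ⋙ RRQ i' ≅ RRQ O.ι ⋙ a' :=
      (((resQAdj i').comp adjO).ofNatIsoLeft bcQ).rightAdjointUniq (adjF.comp (resQAdj O.ι))
    obtain ⟨N₁, hN₁⟩ := exists_isLE_RR O.ι
    obtain ⟨N₂, hN₂⟩ := exists_isLE_RR i'
    obtain ⟨N₃, hN₃⟩ := exists_isLE_RR g
    refine ⟨N₁ + N₃ + d + N₂, fun M n _ hn => ?_⟩
    let E := (aO.obj M).obj
    have h1 : (((RR i').obj E)).IsLE (n + (N₁ + N₃ + d + N₂)) := by
      suffices hE : E.IsLE (n + (N₁ + N₃ + d)) by
        have := hN₂ E _ (aO.obj M).property hE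
        exact DerivedCategory.TStructure.t.isLE_of_le _ (n + (N₁ + N₃ + d) + N₂) _ (by omega)
      -- push to `X` and restrict
      have h2 : ((RR g').obj ((RR i').obj E)).IsLE (n + (N₁ + N₃ + d)) := by
        have h3 : ((RR g).obj ((RR O.ι).obj M.obj)).IsLE (n + (N₁ + N₃)) := by
          exact le_le (hN₃ _ _ ((RRQ O.ι).obj M).property (hN₁ M.obj n M.property hn)) (by omega)
        let K₀ : DCoh.DQCoh Y := (DCoh.RpushQ g hg).obj ((RRQ O.ι).obj M)
        haveI hK₀ : K₀.obj.IsLE (n + (N₁ + N₃)) := by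
          exact le_iso ((rpushIsoRres g).app _).symm h3
        haveI h4 : (a.obj K₀).obj.IsLE (n + (N₁ + N₃) + d) := hd K₀ _ hK₀
        haveI := hξ ((RRQ O.ι).obj M)
        let j : (RR g').obj ((RR i').obj E) ≅ (a.obj K₀).obj :=
          (RR g').mapIso ((DCoh.IsQCohD (X := X')).ι.mapIso (u.app M)) ≪≫ ((rpushIsoRres g').app _).symm ≪≫
            (DCoh.IsQCohD (X := X)).ι.mapIso (asIso (Dual3.xi adj adj' e ((RRQ O.ι).obj M)))
        haveI := DerivedCategory.TStructure.t.isLE_of_le (a.obj K₀).obj (n + (N₁ + N₃) + d) (n + (N₁ + N₃ + d)) (by omega)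
        exact DerivedCategory.TStructure.t.isLE_of_iso j.symm _
      have eX : f' ⁻¹ᵁ O ≤ g' ⁻¹ᵁ (f ⁻¹ᵁ U) := fun x hx => by
        show f (g' x) ∈ U
        rw [← Scheme.Hom.comp_apply, h.w, Scheme.Hom.comp_apply]
        exact eU hx
      let k₀ : (f' ⁻¹ᵁ O).toScheme ⟶ (f ⁻¹ᵁ U).toScheme := g'.resLE _ _ eX
      have hk₀ : k₀ ≫ iX = i' ≫ g' := Scheme.Hom.resLE_comp_ι _ eX
      haveI : IsAffineHom k₀ := by
        haveI : IsAffine U.toScheme := hU
        haveI : IsAffine O.toScheme := hO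
        let g₀ : O.toScheme ⟶ U.toScheme := g.resLE U O eU
        have hsq : IsPullback iX (f ∣_ U) f U.ι := (isPullback_morphismRestrict f U).flip
        have hg₀ : g₀ ≫ U.ι = O.ι ≫ g := Scheme.Hom.resLE_comp_ι _ eU
        have hbig : IsPullback (k₀ ≫ iX) (f' ∣_ O) f (g₀ ≫ U.ι) := by
          rw [hk₀, hg₀]
          exact ((isPullback_morphismRestrict f' O).flip).paste_horiz h
        have hmid : IsPullback k₀ (f' ∣_ O) (f ∣_ U) g₀ := by
          refine IsPullback.of_right hbig ?_ hsq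
          rw [← cancel_mono U.ι, Category.assoc, Category.assoc, hsq.w.symm, ← Category.assoc, hbig.w]
        exact MorphismProperty.of_isPullback hmid.flip (inferInstance : IsAffineHom g₀)
      haveI hk : ((RR k₀).obj E).IsLE (n + (N₁ + N₃ + d)) := le_iso
        (((resD iX).mapIso ((RRCompIso i' g').app E ≪≫ (RRCongr hk₀.symm).app E ≪≫ ((RRCompIso k₀ iX).app E).symm)) ≪≫
          @asIso _ _ _ _ _ (isIso_resDAdj_counit_app iX ((RR k₀).obj E))) (KSix19.isLE_resD iX h2)
      exact isLE_of_isLE_RR k₀ (aO.obj M).property _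
    haveI := h1
    exact le_iso ((DCoh.IsQCohD (X := X')).ι.mapIso (u.app M)) h1
  -- induction along a finite cover
  let Good : Y'.Opens → Prop := fun W => ∃ d' : ℤ, ∀ (K' : DCoh.DQCoh Y') (n : ℤ), K'.obj.IsLE n →
    IsZero ((resD W.ι).obj K'.obj) → (a'.obj K').obj.IsLE (n + d')
  suffices hgood : Good ⊥ by
    obtain ⟨d', hd'⟩ := hgood
    exact ⟨d', fun K' n hn => hd' K' n hn ((isZero_resD_iff_support _ _).2 fun q x _ hx => by
      rw [Scheme.Opens.range_ι] at hx
      exact hx.elim)⟩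
  have hstep : ∀ (W : Y'.Opens) (U : Y.Opens), IsAffineOpen U → ∀ (O : Y'.Opens), IsAffineOpen O → O ≤ g ⁻¹ᵁ U →
      Good (W ⊔ O) → Good W := by
    rintro W U hU O hO eU ⟨d₂, hd₂⟩
    obtain ⟨d₁, hd₁⟩ := haff U hU O hO eU
    haveI : CompactSpace O.toScheme := isCompact_iff_compactSpace.1 hO.isCompact
    haveI : QuasiCompact O.ι := quasiCompact_of_compactSpace O.ι
    obtain ⟨N₀, hN₀⟩ := exists_isLE_RR O.ι
    refine ⟨max d₁ (max N₀ 0 + d₂ + 1), fun K' n hn hW => ?_⟩
    haveI := hn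
    let η : K' ⟶ (RRQ O.ι).obj ((resQ O.ι).obj K') := ObjectProperty.homMk ((resDAdj O.ι).unit.app K'.obj)
    obtain ⟨C, c, d₀, hT⟩ := distinguished_cocone_triangle η
    have hT' := (DCoh.IsQCohD (X := Y')).ι.map_distinguished _ hT
    haveI hloc : ((resD O.ι).obj K'.obj).IsLE n := KSix19.isLE_resD O.ι hn
    haveI hM : ((RR O.ι).obj ((resD O.ι).obj K'.obj)).IsLE (n + N₀) :=
      hN₀ _ n (isQCohD_resD O.ι K'.property) hloc
    have hCle : C.obj.IsLE (n + max N₀ 0) := (DerivedCategory.isLE_iff _ _).2 fun i hi =>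
      (DerivedCategory.HomologySequence.exact₃ _ hT' i (i + 1) rfl).isZero_of_both_isZero
        ((DerivedCategory.isLE_iff _ _).1 hM i (by omega))
        (DerivedCategory.isZero_of_isLE K'.obj n (i + 1) (by omega))
    have hCW : IsZero ((resD (W ⊔ O).ι).obj C.obj) := by
      refine (isZero_resD_iff_support _ _).2 fun q x hx hxWO => ?_
      rw [Scheme.Opens.range_ι] at hxWO
      have hO0 : IsZero ((resD O.ι).obj C.obj) := (Triangle.isZero₃_iff_isIso₁ _
        ((resD O.ι).map_distinguished _ hT')).2 (isIso_resD_unit O.ι K'.obj)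
      rcases hxWO with hxW | hxO
      · have hW0 : IsZero ((resD W.ι).obj C.obj) := by
          refine Triangle.isZero₃_of_isZero₁₂ _ ((resD W.ι).map_distinguished _ hT') hW ?_
          refine ((RR (O.ι ∣_ W)).map_isZero ?_).of_iso ((resDRRBaseChange O.ι W).app _)
          refine (isZero_resD_comp _ _).2 (isZero_resD_of_le _ W.ι ?_ hW)
          rintro y ⟨z, rfl⟩
          rw [Scheme.Opens.range_ι]
          exact z.2
        exact (isZero_resD_iff_support _ _).1 hW0 q hx (by rw [Scheme.Opens.range_ι]; exact hxW)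
      · exact (isZero_resD_iff_support _ _).1 hO0 q hx (by rw [Scheme.Opens.range_ι]; exact hxO)
    haveI h5 := hd₁ ((resQ O.ι).obj K') n hloc
    haveI h6 := hd₂ C _ hCle hCW
    obtain ⟨d₃, hd₃⟩ := exists_map_triangle f' hf' adj' hT
    refine (DerivedCategory.isLE_iff _ _).2 fun i hi =>
      (DerivedCategory.HomologySequence.exact₁ _ hd₃ (i - 1) i (by omega)).isZero_of_both_isZero
        (DerivedCategory.isZero_of_isLE (a'.obj C).obj (n + max N₀ 0 + d₂) (i - 1) (by omega))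
        (DerivedCategory.isZero_of_isLE (a'.obj ((RRQ O.ι).obj ((resQ O.ι).obj K'))).obj (n + d₁) i (by omega))
  have hcov : ∀ y : Y', ∃ O : Y'.Opens, y ∈ O ∧ ∀ W, Good (W ⊔ O) → Good W := fun y => by
    obtain ⟨U, hU, hyU, -⟩ := exists_isAffineOpen_mem_and_subset (x := g y) (U := ⊤) trivial
    obtain ⟨O, hO, hy, eU⟩ := exists_isAffineOpen_mem_and_subset (x := y) (U := g ⁻¹ᵁ U) hyU
    exact ⟨O, hy, fun W => hstep W U hU O hO eU⟩
  choose O hy hO using hcov
  obtain ⟨s, hs⟩ := isCompact_univ.elim_finite_subcover (fun y => (O y : Set Y')) (fun y => (O y).2)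
    (fun y _ => Set.mem_iUnion.2 ⟨y, hy y⟩)
  have hall : ∀ (t : Finset Y') (W : Y'.Opens), Good (W ⊔ t.sup O) → Good W := by
    classical
    intro t
    induction t using Finset.induction_on with
    | empty => intro W hW; rwa [Finset.sup_empty, sup_bot_eq] at hW
    | insert y t _ ih =>
      intro W hW
      rw [Finset.sup_insert, ← sup_assoc] at hW
      exact hO y W (ih _ hW)
  refine hall s ⊥ ?_
  refine ⟨0, fun K' n hn hK' => ?_⟩
  have htop : (⊥ ⊔ s.sup O : Y'.Opens) = ⊤ := top_le_iff.1 fun y _ => by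
    obtain ⟨z, hz, hyz⟩ := Set.mem_iUnion₂.1 (hs (Set.mem_univ y))
    exact Or.inr ((Finset.le_sup hz : O z ≤ s.sup O) hyz)
  have hz : ∀ i, IsZero (DCoh.HD K'.obj i) := fun i => isZero_of_subsingleton_stalks _ fun y => by
    by_contra hne
    exact (isZero_resD_iff_support _ _).1 hK' i hne (by rw [Scheme.Opens.range_ι, htop]; trivial)
  have hK0 : IsZero K'.obj := by
    obtain ⟨Z, hZ⟩ : ∃ Z : DCoh.D Y', IsZero Z := HasZeroObject.zero
    haveI : IsIso (0 : Z ⟶ K'.obj) := (DerivedCategory.isIso_iff _ _).2 fun q =>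
      ⟨0, ((DerivedCategory.homologyFunctor _ q).map_isZero hZ).eq_of_src _ _, (hz q).eq_of_src _ _⟩
    exact hZ.of_iso (asIso (0 : Z ⟶ K'.obj)).symm
  have hK0' : IsZero K' := (IsZero.iff_id_eq_zero _).2 (ObjectProperty.hom_ext _ (hK0.eq_of_src _ _))
  haveI : a'.IsRightAdjoint := adj'.isRightAdjoint
  exact (DerivedCategory.isLE_iff _ _).2 fun i _ => (DerivedCategory.homologyFunctor _ i).map_isZero
    ((DCoh.IsQCohD (X := X')).ι.map_isZero (a'.map_isZero hK0'))

end GrothLib.AdjBdd22
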